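import Mathlib

/-!
# Five pairwise anticommuting involutions: the definition `Frame5` (S3540 / S3577, TEAM HT-E, B1 and B2)
-/

set_option autoImplicit false

namespace Cfsg.Agent.H669.HT

universe u

variable {p : ℕ} [Fact p.Prime] {M : Type u} [AddCommGroup M] [Module (ZMod p) M]

/-- five pairwise anticommuting involutions with scalar product `± 1` -/
structure Frame5 (t : Fin 5 → (M ≃ₗ[ZMod p] M)) : Prop where
  sq : ∀ k, t k * t k = 1
  anti : ∀ j k, j ≠ k → ∀ v : M, (t j * t k) v = -(t k * t j) v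
  prod : (∀ v : M, (t 0 * t 1 * t 2 * t 3 * t 4) v = v) ∨ (∀ v : M, (t 0 * t 1 * t 2 * t 3 * t 4) v = -v)

end Cfsg.Agent.H669.HT
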