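import Cfsg.Agent.H662.HT.Sym
import Cfsg.Agent.H669.HT.Frame5

/-!
# The minus type group `2^(1+4)` has a frame of five anticommuting involutions (TEAM HT-E, B1)

`exists_frame`.
-/

set_option autoImplicit false

namespace Cfsg.Agent.H669.HT

open Finset

section abstract

variable {E : Type*} [Group E] [Fintype E] [DecidableEq E]

/-- the extraspecial group of order `32` with twelve solutions of `x ^ 2 = 1` -/
structure ES (z : E) : Prop where
  z1 : z ≠ 1
  zc : ∀ x, z * x = x * z
  zz : z * z = 1
  cen : ∀ x, (∀ y, x * y = y * x) → x = 1 ∨ x = z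
  comm : ∀ x y, x * y = y * x ∨ x * y = z * (y * x)
  card : Fintype.card E = 32
  sol : (univ.filter (fun x : E => x * x = 1)).card = 12
  sq : ∀ x : E, x * x = 1 ∨ x * x = z

variable {z : E}

theorem ES.ne_z (h : ES z) (x : E) : z * x ≠ x := fun e => h.z1 (mul_eq_right.1 e)

/-- a non-central involution -/
def Inv (z : E) (t : E) : Prop := t * t = 1 ∧ t ≠ 1 ∧ t ≠ z

theorem ES.half (h : ES z) {t : E} (ht : Inv z t) :
    (univ.filter (fun x : E => ¬ x * t = t * x)).card = 16 := by
  classical
  obtain ⟨y, hy⟩ : ∃ y, ¬ t * y = y * t := by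
    by_contra hcon
    push Not at hcon
    rcases h.cen t hcon with h1 | h1
    · exact ht.2.1 h1
    · exact ht.2.2 h1
  have hy' : y * t = z * (t * y) := (h.comm y t).resolve_left fun e => hy e.symm
  have h1 : (univ.filter (fun x : E => ¬ x * t = t * x)).card = (univ.filter (fun x : E => x * t = t * x)).card := by
    refine Finset.card_bij' (fun x _ => x * y) (fun x _ => x * y⁻¹) ?_ ?_ ?_ ?_
    · intro x hx
      simp only [mem_filter, mem_univ, true_and] at hx ⊢
      have hx' : x * t = z * (t * x) := (h.comm x t).resolve_left hx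
      calc x * y * t = x * (y * t) := mul_assoc _ _ _
        _ = x * (z * (t * y)) := by rw [hy']
        _ = z * (x * t * y) := by rw [← mul_assoc, ← h.zc x]; simp only [mul_assoc]
        _ = z * (z * (t * x) * y) := by rw [hx']
        _ = (z * z) * (t * (x * y)) := by simp only [mul_assoc]
        _ = t * (x * y) := by rw [h.zz, one_mul]
    · intro x hx
      simp only [mem_filter, mem_univ, true_and] at hx ⊢
      intro e
      -- y⁻¹ t = z t y⁻¹
      have h2 : y⁻¹ * t = z * (t * y⁻¹) := by
        have h3 : t * y = z * (y * t) := by rw [hy', ← mul_assoc, h.zz, one_mul]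
        rw [inv_mul_eq_iff_eq_mul]
        calc t = t * y * y⁻¹ := by group
          _ = z * (y * t) * y⁻¹ := by rw [h3]
          _ = y * (z * (t * y⁻¹)) := by rw [← mul_assoc y z, ← h.zc y]; simp only [mul_assoc]
      have h4 : x * y⁻¹ * t = z * (t * (x * y⁻¹)) := by
        calc x * y⁻¹ * t = x * (y⁻¹ * t) := mul_assoc _ _ _
          _ = x * (z * (t * y⁻¹)) := by rw [h2]
          _ = z * (x * t * y⁻¹) := by rw [← mul_assoc, ← h.zc x]; simp only [mul_assoc]
          _ = z * (t * (x * y⁻¹)) := by rw [hx]; simp only [mul_assoc]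
      rw [e] at h4
      exact h.ne_z _ h4.symm
    · intro x _; simp
    · intro x _; simp
  have h2 := Finset.card_filter_add_card_filter_not (s := (univ : Finset E)) (fun x : E => x * t = t * x)
  rw [Finset.card_univ, h.card] at h2
  omega

theorem ES.four (h : ES z) {t : E} (ht : Inv z t) :
    (univ.filter (fun x : E => x * x = 1 ∧ x * t = t * x)).card = 4 := by
  classical
  -- outside of the centralizer
  have h1 : (univ.filter (fun x : E => x * x = 1 ∧ ¬ x * t = t * x)).card =
      (univ.filter (fun x : E => ¬ x * x = 1 ∧ ¬ x * t = t * x)).card := by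
    have key : ∀ x : E, ¬ x * t = t * x → x * t * (x * t) = z * (x * x) := by
      intro x hx
      have hx' : t * x = z * (x * t) := (h.comm t x).resolve_left fun e => hx e.symm
      calc x * t * (x * t) = x * (t * x) * t := by simp only [mul_assoc]
        _ = x * (z * (x * t)) * t := by rw [hx']
        _ = z * (x * x * (t * t)) := by
            rw [← mul_assoc x z, ← h.zc x]; simp only [mul_assoc]
        _ = z * (x * x) := by rw [ht.1, mul_one]
    have key2 : ∀ x : E, ¬ x * t = t * x → ¬ x * t * t = t * (x * t) := by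
      intro x hx e
      apply hx
      rw [← mul_assoc] at e
      exact mul_right_cancel e
    refine Finset.card_bij' (fun x _ => x * t) (fun x _ => x * t) ?_ ?_ ?_ ?_
    · intro x hx
      simp only [mem_filter, mem_univ, true_and] at hx ⊢
      refine ⟨?_, key2 x hx.2⟩
      rw [key x hx.2, hx.1, mul_one]
      exact h.z1
    · intro x hx
      simp only [mem_filter, mem_univ, true_and] at hx ⊢
      refine ⟨?_, key2 x hx.2⟩
      rw [key x hx.2, (h.sq x).resolve_left hx.1, h.zz]
    · intro x _; simp [mul_assoc, ht.1]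
    · intro x _; simp [mul_assoc, ht.1]
  have h2 := h.half ht
  have h3 := h.sol
  have h4 := Finset.card_filter_add_card_filter_not (s := univ.filter (fun x : E => x * x = 1))
    (fun x : E => x * t = t * x)
  have h5 := Finset.card_filter_add_card_filter_not (s := univ.filter (fun x : E => ¬ x * t = t * x))
    (fun x : E => x * x = 1)
  rw [Finset.filter_filter, Finset.filter_filter] at h4 h5
  have h6 : (univ.filter (fun x : E => ¬ x * t = t * x ∧ x * x = 1)) =
      (univ.filter (fun x : E => x * x = 1 ∧ ¬ x * t = t * x)) := by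
    ext x; simp [and_comm]
  have h7 : (univ.filter (fun x : E => ¬ x * t = t * x ∧ ¬ x * x = 1)) =
      (univ.filter (fun x : E => ¬ x * x = 1 ∧ ¬ x * t = t * x)) := by
    ext x; simp [and_comm]
  rw [h6, h7] at h5
  omega

theorem ES.eq_of_comm (h : ES z) {t y : E} (ht : Inv z t) (hy : Inv z y) (hc : y * t = t * y) :
    y = t ∨ y = z * t := by
  classical
  have hsub : ({1, z, t, z * t} : Finset E) ⊆ univ.filter (fun x : E => x * x = 1 ∧ x * t = t * x) := by
    intro x hx
    simp only [mem_insert, mem_singleton] at hx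
    simp only [mem_filter, mem_univ, true_and]
    rcases hx with rfl | rfl | rfl | rfl
    · simp
    · exact ⟨h.zz, h.zc t⟩
    · exact ⟨ht.1, rfl⟩
    · refine ⟨?_, ?_⟩
      · calc z * t * (z * t) = z * (t * z) * t := by simp only [mul_assoc]
          _ = (z * z) * (t * t) := by rw [← h.zc t]; simp only [mul_assoc]
          _ = 1 := by rw [h.zz, ht.1, one_mul]
      · rw [← mul_assoc, ← h.zc t]
  have hcard : ({1, z, t, z * t} : Finset E).card = 4 := by
    have e1 : (1 : E) ≠ z := h.z1.symm
    have e2 : (1 : E) ≠ t := ht.2.1.symm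
    have e3 : (1 : E) ≠ z * t := by
      intro e
      apply ht.2.2
      have : z * 1 = z * (z * t) := by rw [← e]
      rw [mul_one, ← mul_assoc, h.zz, one_mul] at this
      exact this.symm
    have e4 : z ≠ t := ht.2.2.symm
    have e5 : z ≠ z * t := by
      intro e
      exact ht.2.1 (left_eq_mul.1 e)
    have e6 : t ≠ z * t := (h.ne_z t).symm
    rw [Finset.card_insert_of_notMem, Finset.card_insert_of_notMem, Finset.card_insert_of_notMem,
      Finset.card_singleton]
    · simpa using e6
    · simp only [mem_insert, mem_singleton, not_or]; exact ⟨e4, e5⟩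
    · simp only [mem_insert, mem_singleton, not_or]; exact ⟨e1, e2, e3⟩
  have heq := Finset.eq_of_subset_of_card_le hsub (by rw [hcard, h.four ht])
  have hy' : y ∈ univ.filter (fun x : E => x * x = 1 ∧ x * t = t * x) := by
    simp only [mem_filter, mem_univ, true_and]
    exact ⟨hy.1, hc⟩
  rw [← heq] at hy'
  simp only [mem_insert, mem_singleton] at hy'
  rcases hy' with h1 | h1 | h1 | h1
  · exact absurd h1 hy.2.1
  · exact absurd h1 hy.2.2
  · exact Or.inl h1
  · exact Or.inr h1

theorem ES.card_inv (h : ES z) : (univ.filter (fun x : E => x * x = 1 ∧ x ≠ 1 ∧ x ≠ z)).card = 10 := by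
  classical
  have h1 : univ.filter (fun x : E => x * x = 1 ∧ x ≠ 1 ∧ x ≠ z) =
      (univ.filter (fun x : E => x * x = 1)) \ {1, z} := by
    ext x
    simp [not_or]
  rw [h1, Finset.card_sdiff_of_subset, h.sol, Finset.card_insert_of_notMem, Finset.card_singleton]
  · simpa using h.z1.symm
  · intro x hx
    simp only [mem_insert, mem_singleton] at hx
    simp only [mem_filter, mem_univ, true_and]
    rcases hx with rfl | rfl
    · simp
    · exact h.zz

/-- `k` representatives of the pairs `{t, z t}` -/
structure Fam (z : E) {k : ℕ} (t : Fin k → E) : Prop where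
  inv : ∀ i, Inv z (t i)
  ne : ∀ i j, i ≠ j → t i ≠ t j
  ne' : ∀ i j, i ≠ j → t i ≠ z * t j

theorem ES.exists_fam (h : ES z) : ∀ k ≤ 5, ∃ t : Fin k → E, Fam z t := by
  classical
  intro k
  induction k with
  | zero => intro _; exact ⟨fun i => i.elim0, fun i => i.elim0, fun i => i.elim0, fun i => i.elim0⟩
  | succ k ih =>
    intro hk
    obtain ⟨t, ht⟩ := ih (by omega)
    obtain ⟨x, hx, hx'⟩ : ∃ x ∈ univ.filter (fun x : E => x * x = 1 ∧ x ≠ 1 ∧ x ≠ z),
        x ∉ univ.image t ∪ univ.image (fun i => z * t i) := by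
      apply Finset.exists_mem_notMem_of_card_lt_card
      rw [h.card_inv]
      calc (univ.image t ∪ univ.image (fun i => z * t i)).card
          ≤ (univ.image t).card + (univ.image (fun i => z * t i)).card := Finset.card_union_le _ _
        _ ≤ k + k := by
            refine Nat.add_le_add ?_ ?_ <;>
            · refine Finset.card_image_le.trans ?_
              simp
        _ < 10 := by omega
    simp only [mem_filter, mem_univ, true_and] at hx
    simp only [mem_union, mem_image, mem_univ, true_and, not_or, not_exists] at hx'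
    obtain ⟨hx1, hx2⟩ := hx'
    have hx3 : ∀ i, t i ≠ z * x := by
      intro i e
      apply hx2 i
      rw [e, ← mul_assoc, h.zz, one_mul]
    refine ⟨Fin.cons x t, ?_, ?_, ?_⟩
    · intro i
      refine Fin.cases ?_ (fun i => ?_) i
      · exact hx
      · simpa using ht.inv i
    · intro i j
      refine Fin.cases ?_ (fun i => ?_) i <;> refine Fin.cases ?_ (fun j => ?_) j
      · intro hne; exact absurd rfl hne
      · intro _; simpa using fun e => hx1 j e.symm
      · intro _; simpa using hx1 i
      · intro hne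
        have : i ≠ j := fun e => hne (by rw [e])
        simpa using ht.ne i j this
    · intro i j
      refine Fin.cases ?_ (fun i => ?_) i <;> refine Fin.cases ?_ (fun j => ?_) j
      · intro hne; exact absurd rfl hne
      · intro _; simpa using fun e => hx2 j e.symm
      · intro _; simpa using hx3 i
      · intro hne
        have : i ≠ j := fun e => hne (by rw [e])
        simpa using ht.ne' i j this

theorem ES.all (h : ES z) {t : Fin 5 → E} (ht : Fam z t) {x : E} (hx : Inv z x) :
    ∃ k, x = t k ∨ x = z * t k := by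
  classical
  let f : Fin 5 × Bool → E := fun q => if q.2 then z * t q.1 else t q.1
  have hf : Function.Injective f := by
    rintro ⟨i, b⟩ ⟨j, c⟩ e
    by_cases hij : i = j
    · subst hij
      cases b <;> cases c <;> simp only [f, if_true, Bool.false_eq_true, if_false] at e
      · rfl
      · exact absurd e.symm (h.ne_z _)
      · exact absurd e (h.ne_z _)
      · rfl
    · exfalso
      cases b <;> cases c <;> simp only [f, if_true, Bool.false_eq_true, if_false] at e
      · exact ht.ne i j hij e
      · exact ht.ne' i j hij e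
      · exact ht.ne' j i (Ne.symm hij) e.symm
      · exact ht.ne i j hij (mul_left_cancel e)
  have hsub : univ.image f ⊆ univ.filter (fun x : E => x * x = 1 ∧ x ≠ 1 ∧ x ≠ z) := by
    intro y hy
    simp only [mem_image, mem_univ, true_and] at hy
    obtain ⟨⟨i, b⟩, rfl⟩ := hy
    simp only [mem_filter, mem_univ, true_and]
    have hi := ht.inv i
    cases b <;> simp only [f, if_true, Bool.false_eq_true, if_false]
    · exact hi
    · refine ⟨?_, ?_, ?_⟩
      · calc z * t i * (z * t i) = z * (t i * z) * t i := by simp only [mul_assoc]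
          _ = (z * z) * (t i * t i) := by rw [← h.zc]; simp only [mul_assoc]
          _ = 1 := by rw [h.zz, hi.1, one_mul]
      · intro e
        apply hi.2.2
        have : z * (z * t i) = z * 1 := by rw [e]
        rwa [← mul_assoc, h.zz, one_mul, mul_one] at this
      · intro e
        exact hi.2.1 (mul_eq_left.1 e)
  have heq := Finset.eq_of_subset_of_card_le hsub (by
    rw [h.card_inv, Finset.card_image_of_injective _ hf]
    simp)
  have hx' : x ∈ univ.filter (fun x : E => x * x = 1 ∧ x ≠ 1 ∧ x ≠ z) := by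
    simp only [mem_filter, mem_univ, true_and]
    exact hx
  rw [← heq] at hx'
  simp only [mem_image, mem_univ, true_and] at hx'
  obtain ⟨⟨i, b⟩, rfl⟩ := hx'
  refine ⟨i, ?_⟩
  cases b <;> simp [f]

/-- the elements of a family anticommute -/
theorem ES.anti (h : ES z) {k : ℕ} {t : Fin k → E} (ht : Fam z t) {i j : Fin k} (hij : i ≠ j) :
    t i * t j = z * (t j * t i) := by
  refine (h.comm _ _).resolve_left fun e => ?_
  rcases h.eq_of_comm (ht.inv j) (ht.inv i) e with h1 | h1
  · exact ht.ne i j hij h1
  · exact ht.ne' i j hij h1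

section signs

omit [Fintype E] [DecidableEq E] in
theorem co_co {a x y : E} (hx : a * x = x * a) (hy : a * y = y * a) : a * (x * y) = x * y * a := by
  rw [← mul_assoc, hx, mul_assoc, hy, mul_assoc]

theorem ES.co_an (h : ES z) {a x y : E} (hx : a * x = x * a) (hy : a * y = z * (y * a)) :
    a * (x * y) = z * (x * y * a) := by
  rw [← mul_assoc, hx, mul_assoc, hy, ← mul_assoc x z, ← h.zc x]
  simp only [mul_assoc]

theorem ES.an_co (_h : ES z) {a x y : E} (hx : a * x = z * (x * a)) (hy : a * y = y * a) :
    a * (x * y) = z * (x * y * a) := by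
  rw [← mul_assoc, hx, mul_assoc, mul_assoc, hy]
  simp only [mul_assoc]

theorem ES.an_an (h : ES z) {a x y : E} (hx : a * x = z * (x * a)) (hy : a * y = z * (y * a)) :
    a * (x * y) = x * y * a := by
  rw [← mul_assoc, hx, mul_assoc, mul_assoc, hy, ← mul_assoc x z, ← h.zc x, mul_assoc z x, ← mul_assoc z z, h.zz,
    one_mul]
  simp only [mul_assoc]

end signs

omit [DecidableEq E] in
theorem two_mul_card {A B : Subgroup E} (h : A < B) : 2 * Nat.card A ≤ Nat.card B := by
  obtain ⟨k, hk⟩ := Subgroup.card_dvd_of_le h.le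
  have hA : 0 < Nat.card A := Nat.card_pos
  have hk0 : k ≠ 0 := by
    rintro rfl
    rw [mul_zero] at hk
    have : 0 < Nat.card B := Nat.card_pos
    omega
  have hk1 : k ≠ 1 := by
    rintro rfl
    rw [mul_one] at hk
    exact h.ne (Subgroup.eq_of_le_of_card_ge h.le hk.le)
  rw [hk, mul_comm]
  exact Nat.mul_le_mul_left _ (by omega)

omit [DecidableEq E] in
/-- one step of the chain -/
theorem step {K : Subgroup E} {c t : E} (hK : K ≤ Subgroup.centralizer {c}) (ht : ¬ c * t = t * c) :
    2 * Nat.card K ≤ Nat.card (K ⊔ Subgroup.zpowers t : Subgroup E) := by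
  refine two_mul_card (lt_of_le_of_ne le_sup_left fun e => ht ?_)
  have h1 : t ∈ K := by
    rw [e]
    exact (le_sup_right : Subgroup.zpowers t ≤ _) (Subgroup.mem_zpowers t)
  exact (Subgroup.mem_centralizer_singleton_iff.1 (hK h1)).symm

omit [Fintype E] [DecidableEq E] in
theorem mem_cent {c t : E} (h : c * t = t * c) : Subgroup.zpowers t ≤ Subgroup.centralizer {c} := by
  rw [Subgroup.zpowers_le]
  exact Subgroup.mem_centralizer_singleton_iff.2 h.symm

theorem ES.closure_eq (h : ES z) {t : Fin 5 → E} (ht : Fam z t) : Subgroup.closure (Set.range t) = ⊤ := by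
  have an : ∀ i j, i ≠ j → t i * t j = z * (t j * t i) := fun i j => h.anti ht
  have nan : ∀ {a b : E}, a * b = z * (b * a) → ¬ a * b = b * a := fun e e' => by
    rw [e'] at e
    exact h.ne_z _ e.symm
  -- the chain
  set K1 : Subgroup E := Subgroup.zpowers z with hK1
  set K2 : Subgroup E := K1 ⊔ Subgroup.zpowers (t 0) with hK2
  set K3 : Subgroup E := K2 ⊔ Subgroup.zpowers (t 1) with hK3
  set K4 : Subgroup E := K3 ⊔ Subgroup.zpowers (t 2) with hK4
  set K5 : Subgroup E := K4 ⊔ Subgroup.zpowers (t 3) with hK5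
  have c1 : 2 ≤ Nat.card K1 := by
    have h0 : Nat.card K1 ≠ 1 := by
      intro e
      have h1 : z ∈ (⊥ : Subgroup E) := by
        rw [← Subgroup.card_eq_one.1 e]
        exact Subgroup.mem_zpowers z
      exact h.z1 (Subgroup.mem_bot.1 h1)
    have : 0 < Nat.card K1 := Nat.card_pos
    omega
  have z_cent : ∀ c, K1 ≤ Subgroup.centralizer {c} := fun c => mem_cent (h.zc c).symm
  have c2 : 2 * Nat.card K1 ≤ Nat.card K2 :=
    step (c := t 1) (z_cent _) (nan (an 1 0 (by decide)))
  have c3 : 2 * Nat.card K2 ≤ Nat.card K3 :=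
    step (c := t 0) (sup_le (z_cent _) (mem_cent rfl)) (nan (an 0 1 (by decide)))
  have c4 : 2 * Nat.card K3 ≤ Nat.card K4 := by
    have a0 : t 0 * (t 2 * t 3) = t 2 * t 3 * t 0 := h.an_an (an 0 2 (by decide)) (an 0 3 (by decide))
    have a1 : t 1 * (t 2 * t 3) = t 2 * t 3 * t 1 := h.an_an (an 1 2 (by decide)) (an 1 3 (by decide))
    have a2 : t 2 * (t 2 * t 3) = z * (t 2 * t 3 * t 2) := h.co_an rfl (an 2 3 (by decide))
    refine step (c := t 2 * t 3) (sup_le (sup_le (z_cent _) (mem_cent a0.symm)) (mem_cent a1.symm)) ?_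
    exact fun e => nan a2 e.symm
  have c5 : 2 * Nat.card K4 ≤ Nat.card K5 := by
    have a0 : t 0 * (t 0 * t 1 * t 2) = t 0 * t 1 * t 2 * t 0 :=
      h.an_an (h.co_an rfl (an 0 1 (by decide))) (an 0 2 (by decide))
    have a1 : t 1 * (t 0 * t 1 * t 2) = t 0 * t 1 * t 2 * t 1 :=
      h.an_an (h.an_co (an 1 0 (by decide)) rfl) (an 1 2 (by decide))
    have a2 : t 2 * (t 0 * t 1 * t 2) = t 0 * t 1 * t 2 * t 2 :=
      co_co (h.an_an (an 2 0 (by decide)) (an 2 1 (by decide))) rfl
    have a3 : t 3 * (t 0 * t 1 * t 2) = z * (t 0 * t 1 * t 2 * t 3) :=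
      h.co_an (h.an_an (an 3 0 (by decide)) (an 3 1 (by decide))) (an 3 2 (by decide))
    refine step (c := t 0 * t 1 * t 2) (sup_le (sup_le (sup_le (z_cent _) (mem_cent a0.symm)) (mem_cent a1.symm))
      (mem_cent a2.symm)) ?_
    exact fun e => nan a3 e.symm
  set H : Subgroup E := Subgroup.closure (Set.range t) with hH
  have hm : ∀ i, t i ∈ H := fun i => Subgroup.subset_closure ⟨i, rfl⟩
  have hz : z ∈ H := by
    have h1 : z = t 0 * t 1 * (t 0 * t 1) := by
      calc z = z * (t 1 * t 1) := by rw [(ht.inv 1).1, mul_one]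
        _ = z * (t 1 * (t 0 * t 0) * t 1) := by rw [(ht.inv 0).1, mul_one]
        _ = z * (t 1 * t 0) * (t 0 * t 1) := by simp only [mul_assoc]
        _ = t 0 * t 1 * (t 0 * t 1) := by rw [← an 0 1 (by decide)]
    rw [h1]
    exact H.mul_mem (H.mul_mem (hm 0) (hm 1)) (H.mul_mem (hm 0) (hm 1))
  have hle : K5 ≤ H := by
    refine sup_le (sup_le (sup_le (sup_le ?_ ?_) ?_) ?_) ?_
    · exact (Subgroup.zpowers_le).2 hz
    · exact (Subgroup.zpowers_le).2 (hm 0)
    · exact (Subgroup.zpowers_le).2 (hm 1)
    · exact (Subgroup.zpowers_le).2 (hm 2)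
    · exact (Subgroup.zpowers_le).2 (hm 3)
  have hE : Nat.card E = 32 := by rw [Nat.card_eq_fintype_card, h.card]
  have h5 : Nat.card K5 ≤ Nat.card H := Nat.le_of_dvd Nat.card_pos (Subgroup.card_dvd_of_le hle)
  refine Subgroup.eq_top_of_le_card H ?_
  omega

theorem ES.prod (h : ES z) {t : Fin 5 → E} (ht : Fam z t) :
    t 0 * t 1 * t 2 * t 3 * t 4 = 1 ∨ t 0 * t 1 * t 2 * t 3 * t 4 = z := by
  have an : ∀ i j, i ≠ j → t i * t j = z * (t j * t i) := fun i j => h.anti ht
  refine h.cen _ fun y => ?_
  have hy : y ∈ Subgroup.closure (Set.range t) := by rw [h.closure_eq ht]; exact Subgroup.mem_top y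
  have hle : Subgroup.closure (Set.range t) ≤ Subgroup.centralizer {t 0 * t 1 * t 2 * t 3 * t 4} := by
    rw [Subgroup.closure_le]
    rintro _ ⟨i, rfl⟩
    refine Subgroup.mem_centralizer_singleton_iff.2 ?_
    fin_cases i
    · exact h.an_an (h.co_an (h.an_an (h.co_an rfl (an 0 1 (by decide))) (an 0 2 (by decide))) (an 0 3 (by decide)))
        (an 0 4 (by decide))
    · exact h.an_an (h.co_an (h.an_an (h.an_co (an 1 0 (by decide)) rfl) (an 1 2 (by decide))) (an 1 3 (by decide)))
        (an 1 4 (by decide))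
    · exact h.an_an (h.co_an (co_co (h.an_an (an 2 0 (by decide)) (an 2 1 (by decide))) rfl) (an 2 3 (by decide)))
        (an 2 4 (by decide))
    · exact h.an_an (h.an_co (h.co_an (h.an_an (an 3 0 (by decide)) (an 3 1 (by decide))) (an 3 2 (by decide))) rfl)
        (an 3 4 (by decide))
    · exact co_co (h.an_an (h.co_an (h.an_an (an 4 0 (by decide)) (an 4 1 (by decide))) (an 4 2 (by decide)))
        (an 4 3 (by decide))) rfl
  exact (Subgroup.mem_centralizer_singleton_iff.1 (hle hy)).symm

end abstract

section concrete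

open Cfsg.Agent.H662.HT

universe u

variable {p : ℕ} [Fact p.Prime] {M : Type u} [AddCommGroup M] [Module (ZMod p) M] [Finite M]

/-- **B1** -/
theorem exists_frame (_hp : 3 ≤ p) {E : Subgroup (M ≃ₗ[ZMod p] M)} (H : Sym 2 2 E M)
    (hz : Nat.card (Subgroup.center E) = 2) (hσ : Nat.card (sol 2 (⊥ : Subgroup E)) = 12) :
    ∃ t : Fin 5 → (M ≃ₗ[ZMod p] M), Frame5 t ∧ (∀ k, t k ∈ E) ∧ E = Subgroup.closure (Set.range t) ∧
      ∀ x ∈ E, x * x = 1 → (∀ v : M, x v = v) ∨ (∀ v : M, x v = -v) ∨ ∃ k, x = t k ∨ ∀ v : M, x v = -(t k v) := by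
  classical
  have := H.fin
  let _ : Fintype E := Fintype.ofFinite E
  obtain ⟨z0, hz0, hz1⟩ := (Nat.card_eq_two_iff' (1 : Subgroup.center E)).1 hz
  obtain ⟨z, hzc⟩ := z0
  have z1 : z ≠ 1 := fun e => hz0 (Subtype.ext e)
  have cen : ∀ x ∈ Subgroup.center E, x = 1 ∨ x = z := by
    intro x hx
    by_cases h1 : x = 1
    · exact Or.inl h1
    · right
      have h2 := hz1 ⟨x, hx⟩ fun e => h1 (congrArg Subtype.val e)
      exact congrArg Subtype.val h2
  have zc : ∀ x : E, z * x = x * z := fun x => (Subgroup.mem_center_iff.1 hzc x).symm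
  have zz : z * z = 1 := by
    rcases cen (z * z) ((Subgroup.center E).mul_mem hzc hzc) with h | h
    · exact h
    · exact absurd (mul_eq_left.1 h) z1
  have hES : ES z := by
    refine ⟨z1, zc, zz, ?_, ?_, ?_, ?_, ?_⟩
    · intro x hx
      exact cen x (Subgroup.mem_center_iff.2 fun y => (hx y).symm)
    · intro x y
      rcases cen _ (H.comm x y) with h | h
      · exact Or.inl (commutatorElement_eq_one_iff_mul_comm.1 h)
      · right
        rw [commutatorElement_def] at h
        rw [← h]
        group
    · rw [← Nat.card_eq_fintype_card, H.card, hz]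
      norm_num
    · rw [← hσ]
      have h1 : sol 2 (⊥ : Subgroup E) = ((univ.filter (fun x : E => x * x = 1) : Finset E) : Set E) := by
        ext x
        simp only [sol, Set.mem_ofPred_eq, coe_filter, mem_univ, true_and, pow_two]
        constructor
        · exact fun h => h.2
        · refine fun h => ⟨?_, h⟩
          rw [Subgroup.mem_centralizer_iff]
          intro y hy
          rw [SetLike.mem_coe, Subgroup.mem_bot] at hy
          rw [hy, one_mul, mul_one]
      rw [h1, Nat.card_coe_set_eq, Set.ncard_coe_finset]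
    · intro x
      have h := cen _ (H.exp x)
      rwa [pow_two] at h
  have zneg : ∀ v : M, (z : M ≃ₗ[ZMod p] M) v = -v := by
    intro v
    have h1 : z • z • v = v := by rw [← mul_smul, zz, one_smul]
    have h2 : z • (v + z • v) = v + z • v := by
      rw [smul_add, h1, add_comm]
    have h3 := H.semi z hzc z1 _ h2
    exact (neg_eq_of_add_eq_zero_right h3).symm
  obtain ⟨t, ht⟩ := hES.exists_fam 5 le_rfl
  have hmul : ∀ x : E, ∀ v : M, ((z * x : E) : M ≃ₗ[ZMod p] M) v = -((x : M ≃ₗ[ZMod p] M) v) := by
    intro x v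
    exact zneg _
  refine ⟨fun k => (t k : M ≃ₗ[ZMod p] M), ⟨?_, ?_, ?_⟩, fun k => (t k).2, ?_, ?_⟩
  · intro k
    exact congrArg Subtype.val (ht.inv k).1
  · intro j k hjk v
    have h1 := congrArg Subtype.val (hES.anti ht hjk)
    have h2 : ((t j : M ≃ₗ[ZMod p] M) * (t k : M ≃ₗ[ZMod p] M)) v = ((z * (t k * t j) : E) : M ≃ₗ[ZMod p] M) v :=
      congrArg (fun f : M ≃ₗ[ZMod p] M => f v) h1
    rw [h2, hmul]
    rfl
  · rcases hES.prod ht with h | h
    · left
      intro v
      exact congrArg (fun f : M ≃ₗ[ZMod p] M => f v) (congrArg Subtype.val h)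
    · right
      intro v
      rw [← zneg v]
      exact congrArg (fun f : M ≃ₗ[ZMod p] M => f v) (congrArg Subtype.val h)
  · have h1 := congrArg (Subgroup.map E.subtype) (hES.closure_eq ht)
    rw [MonoidHom.map_closure, ← MonoidHom.range_eq_map, Subgroup.range_subtype, ← Set.range_comp] at h1
    exact h1.symm
  · intro x hx hxx
    by_cases h1 : (⟨x, hx⟩ : E) = 1
    · left
      intro v
      have h2 : x = 1 := congrArg Subtype.val h1
      rw [h2]
      rfl
    by_cases h2 : (⟨x, hx⟩ : E) = z
    · right; left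
      intro v
      have h3 : x = z := congrArg Subtype.val h2
      rw [h3]
      exact zneg v
    right; right
    obtain ⟨k, hk⟩ := hES.all ht (x := ⟨x, hx⟩) ⟨Subtype.ext hxx, h1, h2⟩
    refine ⟨k, hk.imp (fun e => congrArg Subtype.val e) fun e v => ?_⟩
    have h3 : x = ((z * t k : E) : M ≃ₗ[ZMod p] M) := congrArg Subtype.val e
    rw [h3, hmul]

end concrete

end Cfsg.Agent.H669.HT
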